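import Cfsg.Agent.H26.XZ.Gal

/-!
# `E₈(q)`, `q` of order 4 modulo `p` (S4791, S4927; helper931): the forms `f₈`, `f₁₂`, abstractly

`nr` bounds from forms `f₈`, `f₁₂` with known values at two points `y₁`, `y₂`:
`f₈(y₁) = c₈`, `f₁₂(y₁) = c₁₂`, `f₈(y₂) = -5 c₈`, `f₁₂(y₂) = 35 c₁₂`.
-/

set_option autoImplicit false
set_option linter.unusedSectionVars false

namespace Cfsg.Agent.H931.XZ

open Cfsg
open Cfsg.Agent.Blocks Cfsg.Agent.Blocks.Local Cfsg.Agent.Characters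
open Cfsg.Agent.H603.AP Cfsg.Agent.H26.XZ

universe u

variable {p : ℕ} [hpp : Fact p.Prime] {M : Ideal AlgInt} {G : Type u} [Group G] [Finite G]

theorem WInv.mul {P : Sylow p G} {f g : LL p P → ZMod p} (hf : WInv P f) (hg : WInv P g) : WInv P (f * g) := by
  intro n hn l l' h
  rw [Pi.mul_apply, Pi.mul_apply, hf n hn l l' h, hg n hn l l' h]

/-- two functions with a nonzero determinant at two points -/
theorem linInd_of_det {Y : Type*} {f g : Y → ZMod p} (y₁ y₂ : Y) (h : f y₁ * g y₂ - f y₂ * g y₁ ≠ 0) :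
    LinearIndependent (ZMod p) ![f, g] := by
  rw [LinearIndependent.pair_iff]
  intro s t hst
  have h1 : s * f y₁ + t * g y₁ = 0 := by
    have := congrFun hst y₁
    simpa using this
  have h2 : s * f y₂ + t * g y₂ = 0 := by
    have := congrFun hst y₂
    simpa using this
  constructor
  · have h3 : s * (f y₁ * g y₂ - f y₂ * g y₁) = 0 := by linear_combination g y₂ * h1 - g y₁ * h2
    exact (mul_eq_zero.1 h3).resolve_right h
  · have h3 : t * (f y₁ * g y₂ - f y₂ * g y₁) = 0 := by linear_combination f y₁ * h2 - f y₂ * h1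
    exact (mul_eq_zero.1 h3).resolve_right h

theorem gcd4 {p : ℕ} (h5 : 5 ≤ p) (h1 : p % 4 = 1) : Nat.gcd (p - 5) (p - 1) = 4 := by
  obtain ⟨m, rfl⟩ : ∃ m, p = 4 * m + 5 := ⟨(p - 5) / 4, by omega⟩
  have e1 : 4 * m + 5 - 5 = 4 * m := by omega
  have e2 : 4 * m + 5 - 1 = 4 * m + 4 := by omega
  rw [e1, e2]
  have e3 : 4 * m + 4 = 4 * (m + 1) := by ring
  rw [e3, Nat.gcd_mul_left]
  have : Nat.gcd m (m + 1) = 1 := by simp
  rw [this]

/-- natural numbers prime to `p` -/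
theorem cast_ne_zero' {p n : ℕ} [hpp : Fact p.Prime] (h : ∀ q : ℕ, q.Prime → q ∣ n → q < p) : (n : ZMod p) ≠ 0 := by
  intro h0
  exact lt_irrefl p (h p hpp.out ((ZMod.natCast_eq_zero_iff n p).1 h0))

/-- the data of the two forms -/
structure Data (P : Sylow p G) (f8 f12 : LL p P → ZMod p) (y₁ y₂ : LL p P) (c8 c12 : ZMod p) : Prop where
  P8 : f8 ∈ Pol p P 8
  P12 : f12 ∈ Pol p P 12
  W8 : WInv P f8
  W12 : WInv P f12
  n8 : c8 ≠ 0
  n12 : c12 ≠ 0
  f8y₁ : f8 y₁ = c8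
  f12y₁ : f12 y₁ = c12
  f8y₂ : f8 y₂ = -5 * c8
  f12y₂ : f12 y₂ = 35 * c12

section

variable {P : Sylow p G} {f8 f12 : LL p P → ZMod p} {y₁ y₂ : LL p P} {c8 c12 : ZMod p}

/-- `p = 13` -/
theorem nr_13 (hM : IsPModular p M) (hpG : p ∣ Nat.card G) (hab : ∀ x ∈ P, ∀ y ∈ P, x * y = y * x)
    (H : Data P f8 f12 y₁ y₂ c8 c12) (hp : p = 13) : 3 ≤ H508.XR.nr p M G := by
  have h := gal_nr_one hM hpG hab (D := 8) (by norm_num) (by omega) (f := f8)
    (fun h => H.n8 (by rw [← H.f8y₁, h]; rfl)) H.P8 H.W8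
  subst hp
  norm_num at h
  exact h

/-- `p = 17` -/
theorem nr_17 (hM : IsPModular p M) (hpG : p ∣ Nat.card G) (hab : ∀ x ∈ P, ∀ y ∈ P, x * y = y * x)
    (H : Data P f8 f12 y₁ y₂ c8 c12) (hp : p = 17) : 4 ≤ H508.XR.nr p M G := by
  have h := gal_nr_one hM hpG hab (D := 12) (by norm_num) (by omega) (f := f12)
    (fun h => H.n12 (by rw [← H.f12y₁, h]; rfl)) H.P12 H.W12
  subst hp
  norm_num at h
  exact h

/-- the exponents -/
theorem exists_ab {p : ℕ} (hp : p.Prime) (h1 : p % 4 = 1) (h29 : 29 ≤ p) : ∃ a b : ℕ, p = 8 * a + 12 * b + 29 := by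
  obtain ⟨m, hm⟩ : ∃ m, p = 4 * m + 29 := ⟨(p - 29) / 4, by omega⟩
  have hm1 : m ≠ 1 := by
    rintro rfl
    subst hm
    norm_num at hp
  rcases Nat.even_or_odd' m with ⟨a, ha | ha⟩
  · exact ⟨a, 0, by omega⟩
  · exact ⟨a - 1, 1, by omega⟩

/-- `p ≥ 29` -/
theorem nr_29 (hM : IsPModular p M) (hpG : p ∣ Nat.card G) (hab : ∀ x ∈ P, ∀ y ∈ P, x * y = y * x)
    (H : Data P f8 f12 y₁ y₂ c8 c12) (h1 : p % 4 = 1) (h29 : 29 ≤ p) : (p - 1) / 2 ≤ H508.XR.nr p M G := by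
  obtain ⟨a, b, hab'⟩ := exists_ab hpp.out h1 h29
  have hc8 := H.n8
  have hc12 := H.n12
  have h5 : (5 : ZMod p) ≠ 0 := by
    have := cast_ne_zero' (p := p) (n := 5) fun q hq hd => by
      have := Nat.le_of_dvd (by norm_num) hd
      omega
    simpa using this
  have h35 : (35 : ZMod p) ≠ 0 := by
    have := cast_ne_zero' (p := p) (n := 35) fun q hq hd => by
      have h35 : (35 : ℕ) = 5 * 7 := by norm_num
      rw [h35, hq.dvd_mul] at hd
      rcases hd with hd | hd <;> have := Nat.le_of_dvd (by norm_num) hd <;> omega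
    simpa using this
  have h1350 : (1350 : ZMod p) ≠ 0 := by
    have := cast_ne_zero' (p := p) (n := 1350) fun q hq hd => by
      have h35 : (1350 : ℕ) = 25 * (27 * 2) := by norm_num
      rw [h35, hq.dvd_mul, hq.dvd_mul] at hd
      rcases hd with hd | hd | hd <;> have := Nat.le_of_dvd (by norm_num) hd <;> omega
    simpa using this
  have hli : LinearIndependent (ZMod p) ![f8 ^ (a + 3) * f12 ^ b, f8 ^ a * f12 ^ (b + 2)] := by
    refine linInd_of_det y₁ y₂ ?_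
    simp only [Pi.mul_apply, Pi.pow_apply]
    rw [H.f8y₁, H.f12y₁, H.f8y₂, H.f12y₂]
    have e : c8 ^ (a + 3) * c12 ^ b * ((-5 * c8) ^ a * (35 * c12) ^ (b + 2)) -
        (-5 * c8) ^ (a + 3) * (35 * c12) ^ b * (c8 ^ a * c12 ^ (b + 2)) =
        (c8 ^ (2 * a + 3) * c12 ^ (2 * b + 2)) * ((-5) ^ a * 35 ^ b) * 1350 := by ring
    rw [e]
    refine mul_ne_zero (mul_ne_zero (mul_ne_zero (pow_ne_zero _ hc8) (pow_ne_zero _ hc12))
      (mul_ne_zero (pow_ne_zero _ (neg_ne_zero.2 h5)) (pow_ne_zero _ h35))) h1350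
  have e1 : (a + 3) * 8 + b * 12 = p - 5 := by omega
  have e2 : a * 8 + (b + 2) * 12 = p - 5 := by omega
  have h := gal_nr_two hM hpG hab (D := p - 5) (by omega) (by omega) hli
    (by rw [← e1]; exact Pol_mul (Pol_pow H.P8 _) (Pol_pow H.P12 _))
    (by rw [← e2]; exact Pol_mul (Pol_pow H.P8 _) (Pol_pow H.P12 _))
    (WInv.mul (H.W8.pow _) (H.W12.pow _)) (WInv.mul (H.W8.pow _) (H.W12.pow _))
  rw [gcd4 (by omega) h1] at h
  omega

end

end Cfsg.Agent.H931.XZ
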